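/-
The dihedral argument for two rational involutions in characteristic two that are not conjugate.
-/
import Cfsg.Agent.Lib.Transvec.SubfieldCore

set_option autoImplicit false

namespace Cfsg.Agent.Transvec

open scoped Matrix
open Matrix

variable {ι : Type} [Fintype ι] [DecidableEq ι] {F : Type*} [Field F] {F₀ : Subfield F}

/-- A variant of the involution argument for two rational involutions that are not conjugate. -/
theorem srat_of_involution_nonconj [Finite F] [Nonempty ι] {M : Subgroup (GL ι F)}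
    (hr : ∀ a : F, a ^ 2 ∈ F₀ → a ∈ F₀)
    {s z : GL ι F}
    (hK : ∀ g ∈ M, ∀ x ∈ M, ∀ x' ∈ M, x * x = 1 → x' * x' = 1 → RatM F₀ (x : Matrix ι ι F) →
      RatM F₀ (x' : Matrix ι ι F) → x ≠ 1 → (x : Matrix ι ι F) ≠ -1 →
      ((x : Matrix ι ι F) - 1).rank ≤ ((s : Matrix ι ι F) - 1).rank + ((z : Matrix ι ι F) - 1).rank →
      g * x = x' * g → SRat F₀ g)
    (hs : s ∈ M) (hz : z ∈ M) (hs2 : s * s = 1) (hz2 : z * z = 1)
    (hsR : RatM F₀ (s : Matrix ι ι F)) (hzR : RatM F₀ (z : Matrix ι ι F))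
    (hs1 : s ≠ 1) (hsn : (s : Matrix ι ι F) ≠ -1) (hz1 : z ≠ 1) (hzn : (z : Matrix ι ι F) ≠ -1)
    (hab : ∀ a ∈ M, z * a ≠ a * s)
    (hneg : (-1 : F) = 1) :
    ∀ g ∈ M, SRat F₀ g := by
  intro g hg
  obtain ⟨t, ht⟩ : ∃ t : GL ι F, t = g * z * g⁻¹ := ⟨_, rfl⟩
  have htM : t ∈ M := ht ▸ M.mul_mem (M.mul_mem hg hz) (M.inv_mem hg)
  have ht2 : t * t = 1 := by
    rw [ht, show g * z * g⁻¹ * (g * z * g⁻¹) = g * (z * z) * g⁻¹ by group, hz2]; group
  have htv : ∀ A : Matrix ι ι F, (t : Matrix ι ι F) - A =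
      (g : Matrix ι ι F) * ((z : Matrix ι ι F) - ((g⁻¹ : GL ι F) : Matrix ι ι F) * A * g) *
        ((g⁻¹ : GL ι F) : Matrix ι ι F) := by
    intro A
    rw [ht, Units.val_mul, Units.val_mul, mul_sub, sub_mul]
    congr 1
    simp [← Matrix.mul_assoc, Matrix.mul_assoc A]
  have ht1 : (t : Matrix ι ι F) - 1 =
      (g : Matrix ι ι F) * ((z : Matrix ι ι F) - 1) * ((g⁻¹ : GL ι F) : Matrix ι ι F) := by
    rw [htv 1, Matrix.mul_one, ← Units.val_mul, inv_mul_cancel]; rfl
  -- it suffices that t is rational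
  suffices htR : RatM F₀ (t : Matrix ι ι F) by
    exact hK g hg z hz t htM hz2 ht2 hzR htR hz1 hzn (Nat.le_add_left _ _) (by rw [ht]; group)
  have hsR' : ∀ x ∈ M, x * s = s * x → SRat F₀ x := fun x hx hxs =>
    hK x hx s hs s hs hs2 hs2 hsR hsR hs1 hsn (Nat.le_add_right _ _) hxs
  -- powers of s * t
  obtain ⟨y, hy⟩ : ∃ y : GL ι F, y = s * t := ⟨_, rfl⟩
  have hex : ∃ m, 0 < m ∧ y ^ m ∈ Geo.scalars ι F := by
    obtain ⟨m, hm, hm1⟩ := (isOfFinOrder_iff_pow_eq_one.1 (isOfFinOrder_of_finite y))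
    exact ⟨m, hm, hm1 ▸ one_mem _⟩
  classical
  obtain ⟨hm0, hmC⟩ := Nat.find_spec hex
  have hmin : ∀ l, 0 < l → l < Nat.find hex → y ^ l ∉ Geo.scalars ι F := fun l hl hlt h =>
    Nat.find_min hex hlt ⟨hl, h⟩
  obtain ⟨c, hc⟩ := (Geo.mem_scalars_iff _).1 hmC
  have hsys : s * y * s⁻¹ = y⁻¹ := by
    rw [inv_eq_of_mul_eq_one_right hs2, hy, _root_.mul_inv_rev, inv_eq_of_mul_eq_one_right hs2,
      inv_eq_of_mul_eq_one_right ht2, ← mul_assoc, hs2, one_mul]
  have hsl : ∀ l : ℕ, s * y ^ l * s⁻¹ = (y ^ l)⁻¹ := fun l => by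
    rw [← conj_pow, hsys, inv_pow]
  have htyt : t * y * t⁻¹ = y⁻¹ := by
    rw [inv_eq_of_mul_eq_one_right ht2, hy, _root_.mul_inv_rev, inv_eq_of_mul_eq_one_right hs2,
      inv_eq_of_mul_eq_one_right ht2, mul_assoc, mul_assoc, ht2, mul_one]
  have htl : ∀ l : ℕ, t * y ^ l * t⁻¹ = (y ^ l)⁻¹ := fun l => by
    rw [← conj_pow, htyt, inv_pow]
  rcases Nat.even_or_odd' (Nat.find hex) with ⟨l, hl | hl⟩
  · -- even case: a central involution of the dihedral group
    obtain ⟨w, hw⟩ : ∃ w : GL ι F, w = y ^ l := ⟨_, rfl⟩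
    have hwC : w ∉ Geo.scalars ι F := hw ▸ hmin l (by omega) (by omega)
    have hw2 : ((w * w : GL ι F) : Matrix ι ι F) = (c : F) • 1 := by
      rw [hw, ← pow_add, ← two_mul, ← hl]; exact hc
    have hsw : s * w * s⁻¹ = w⁻¹ := by rw [hw]; exact hsl l
    have htw : t * w * t⁻¹ = w⁻¹ := by rw [hw]; exact htl l
    have hwinv : ((w⁻¹ : GL ι F) : Matrix ι ι F) = (c : F)⁻¹ • (w : Matrix ι ι F) := by
      have : ((w⁻¹ * (w * w) : GL ι F) : Matrix ι ι F) = w := by rw [inv_mul_cancel_left]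
      rw [Units.val_mul, hw2, Matrix.mul_smul, Matrix.mul_one] at this
      conv_rhs => rw [← this]
      rw [smul_smul, inv_mul_cancel₀ c.ne_zero, one_smul]
    have hc2 : (c : F) * c = 1 := by
      have h1 : ((s * (w * w) * s⁻¹ : GL ι F) : Matrix ι ι F) = ((w⁻¹ * w⁻¹ : GL ι F) : Matrix ι ι F) := by
        rw [show s * (w * w) * s⁻¹ = s * w * s⁻¹ * (s * w * s⁻¹) by group, hsw]
      rw [Units.val_mul, Units.val_mul, hw2, Matrix.mul_smul, Matrix.mul_one, Matrix.smul_mul,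
        ← Units.val_mul, mul_inv_cancel, Units.val_mul, hwinv, Matrix.smul_mul, Matrix.mul_smul,
        ← Units.val_mul, hw2, smul_smul, smul_smul] at h1
      obtain ⟨i⟩ := ‹Nonempty ι›
      have := congrFun (congrFun h1 i) i
      simp at this
      field_simp at this
      linear_combination this
    have hc1 : (c : F) = 1 := by
      rcases mul_self_eq_one_iff.1 hc2 with h | h
      · exact h
      rw [h, hneg]
    have hw21 : w * w = 1 := Units.ext (by rw [hw2, hc1, one_smul]; rfl)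
    have hwinv' : w⁻¹ = w := inv_eq_of_mul_eq_one_right hw21
    have hsw1 : w * s = s * w := by
      conv_rhs => rw [show s * w = s * w * s⁻¹ * s by group, hsw, hwinv']
    have htw1 : t * w = w * t := by
      rw [show t * w = t * w * t⁻¹ * t by group, htw, hwinv']
    have hwM : w ∈ M := by rw [hw, hy]; exact M.pow_mem (M.mul_mem hs htM) l
    have hwR := ratM_of_srat_sq hr (hsR' w hwM hsw1) hw21
    have hwn : (w : Matrix ι ι F) ≠ -1 := fun h => hwC ((Geo.mem_scalars_iff w).2 ⟨-1, by simp [h]⟩)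
    have hwrank : ((w : Matrix ι ι F) - 1).rank ≤
        ((s : Matrix ι ι F) - 1).rank + ((z : Matrix ι ι F) - 1).rank := by
      have h1 : ((y : Matrix ι ι F) - 1).rank ≤
          ((t : Matrix ι ι F) - 1).rank + ((s : Matrix ι ι F) - 1).rank := by
        rw [show (y : Matrix ι ι F) - 1 = (s : Matrix ι ι F) * ((t : Matrix ι ι F) - 1) + ((s : Matrix ι ι F) - 1)
          by rw [hy, Units.val_mul, mul_sub, mul_one]; abel]
        exact (rank_add_le' _ _).trans (Nat.add_le_add_right (Matrix.rank_mul_le_right _ _) _)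
      calc ((w : Matrix ι ι F) - 1).rank
          = ((∑ i ∈ Finset.range l, (y : Matrix ι ι F) ^ i) * ((y : Matrix ι ι F) - 1)).rank := by
            rw [geom_sum_mul, hw, Units.val_pow_eq_pow_val]
        _ ≤ ((y : Matrix ι ι F) - 1).rank := Matrix.rank_mul_le_right _ _
        _ ≤ _ := h1.trans (by rw [show ((t : Matrix ι ι F) - 1).rank = ((z : Matrix ι ι F) - 1).rank by
              rw [ht1, rank_conj], Nat.add_comm])
    exact ratM_of_srat_sq hr (hK t htM w hwM w hwM hw21 hw21 hwR hwR (fun h => hwC (h ▸ one_mem _)) hwn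
      hwrank htw1) ht2
  · -- odd case: t is conjugate to a multiple of s
    exfalso
    obtain ⟨C, hCdef⟩ : ∃ C : GL ι F, C = y ^ Nat.find hex := ⟨_, rfl⟩
    rw [← hCdef] at hc
    obtain ⟨h, hh⟩ : ∃ h : GL ι F, h = y ^ l := ⟨_, rfl⟩
    have h1 : h * t * h⁻¹ = y⁻¹ * C * t := by
      have e : h⁻¹ = t * h * t⁻¹ := by rw [hh]; exact (htl l).symm
      rw [e, inv_eq_of_mul_eq_one_right ht2, show h * t * (t * h * t) = h * (t * t) * h * t by group, ht2,
        mul_one, hCdef, hl, hh, ← pow_add, ← two_mul, pow_succ' y (2 * l), inv_mul_cancel_left]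
    have hCv : ∀ A : GL ι F, C * A = A * C := fun A => by
      refine Units.ext ?_
      rw [Units.val_mul, Units.val_mul, hc, Matrix.smul_mul, Matrix.mul_smul, Matrix.one_mul, Matrix.mul_one]
    obtain ⟨q, hq⟩ : ∃ q : GL ι F, q = h⁻¹ * t := ⟨_, rfl⟩
    have h2 : t = C * (q * s * q⁻¹) := by
      have h3 : t = h⁻¹ * (y⁻¹ * C * t) * h := by rw [← h1]; group
      rw [hy, _root_.mul_inv_rev, inv_eq_of_mul_eq_one_right hs2, inv_eq_of_mul_eq_one_right ht2,
        ← hCv (t * s), show h⁻¹ * (C * (t * s) * t) * h = h⁻¹ * C * (t * s * t * h) by group,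
        ← hCv h⁻¹] at h3
      rw [hq, _root_.mul_inv_rev, inv_inv, inv_eq_of_mul_eq_one_right ht2]
      refine h3.trans ?_
      group
    have h2' : (t : Matrix ι ι F) = (q : Matrix ι ι F) * ((c : F) • (s : Matrix ι ι F)) *
        ((q⁻¹ : GL ι F) : Matrix ι ι F) := by
      rw [h2, Units.val_mul, hc, Matrix.smul_mul, Matrix.one_mul, Units.val_mul, Units.val_mul]
      simp
    have hc2 : (c : F) * c = 1 := by
      have h3 : ((t * t : GL ι F) : Matrix ι ι F) = ((c : F) * c) • 1 := by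
        rw [Units.val_mul, h2']
        simp only [Matrix.mul_smul, Matrix.smul_mul, smul_smul]
        congr 1
        rw [← Units.val_mul, ← Units.val_mul, ← Units.val_mul,
          show q * s * q⁻¹ * (q * s * q⁻¹) = q * (s * s) * q⁻¹ by group, hs2, mul_one, mul_inv_cancel]
        rfl
      rw [ht2] at h3
      obtain ⟨i⟩ := ‹Nonempty ι›
      simpa using (congrFun (congrFun h3 i) i).symm
    have hc1 : (c : F) = 1 := (mul_self_eq_one_iff.1 hc2).elim id fun h => h.trans hneg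
    have hC1 : C = 1 := Units.ext (by rw [hc, hc1, one_smul]; rfl)
    rw [hC1, one_mul, ht] at h2
    refine hab (g⁻¹ * q) (M.mul_mem (M.inv_mem hg) (hq ▸ M.mul_mem (M.inv_mem (hh ▸ M.pow_mem (hy ▸ M.mul_mem hs htM) l)) htM)) ?_
    calc z * (g⁻¹ * q) = g⁻¹ * (g * z * g⁻¹) * q := by group
      _ = g⁻¹ * (q * s * q⁻¹) * q := by rw [h2]
      _ = g⁻¹ * q * s := by group

end Cfsg.Agent.Transvec
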